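import Mathlib

/-!
Centralisers of irreducible elements of prime order in `GL_n(q)`.
-/

set_option autoImplicit false

namespace Cfsg.Agent.Orth

open Module

theorem finite_domain_units {R : Type*} [Ring R] [IsDomain R] [Finite R] :
    IsCyclic Rˣ ∧ Nat.card Rˣ = Nat.card R - 1 := by
  letI : Field R := (Finite.isDomain_to_isField R).toField
  exact ⟨inferInstance, Nat.card_units R⟩

variable {F : Type*} [Field F] [Finite F] {V : Type*} [AddCommGroup V] [Module F V]
  [FiniteDimensional F V]

/-- Dimension of the fixed space of an element of prime order `r` on an invariant subspace. -/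
theorem dvd_finrank_sub {n r : ℕ} (hr : r.Prime) {p : ℕ} [Fact p.Prime] [CharP F p] (hrp : r ≠ p)
    (hi : orderOf ((Nat.card F : ℕ) : ZMod r) = n) (x : V →ₗ[F] V) (hx : x ^ r = 1)
    (W : Submodule F V) (hW : ∀ w ∈ W, x w ∈ W) :
    n ∣ finrank F W - finrank F ↥(W ⊓ LinearMap.ker (x - 1)) := by
  classical
  haveI : Fact r.Prime := ⟨hr⟩
  haveI : Finite V := Module.finite_of_finite F
  haveI : Fintype W := Fintype.ofFinite W
  set f : Function.End W := fun w => ⟨x w, hW w w.2⟩ with hf
  have hfk : ∀ (k : ℕ) (w : W), ((f ^ k) w : V) = (x ^ k) (w : V) := by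
    intro k
    induction k with
    | zero => intro w; rfl
    | succ k ih =>
      intro w
      rw [pow_succ', pow_succ']
      change x ((f ^ k) w : V) = x ((x ^ k) (w : V))
      rw [ih]
  have hf1 : f ^ r ^ 1 = 1 := by
    rw [pow_one]
    funext w
    apply Subtype.ext
    rw [hfk, hx]
    rfl
  have h1 := Equiv.Perm.card_fixedPoints_modEq (p := r) hf1
  have h2 : Nat.card (Function.fixedPoints f) = Nat.card ↥(W ⊓ LinearMap.ker (x - 1)) := by
    refine Nat.card_congr
      { toFun := fun w => ⟨(w : W), ⟨(w : W).2, ?_⟩⟩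
        invFun := fun w => ⟨⟨w, w.2.1⟩, ?_⟩
        left_inv := fun w => rfl
        right_inv := fun w => rfl }
    · rw [SetLike.mem_coe, LinearMap.mem_ker, LinearMap.sub_apply, Module.End.one_apply, sub_eq_zero]
      exact congrArg Subtype.val w.2
    · have h3 := w.2.2
      rw [SetLike.mem_coe, LinearMap.mem_ker, LinearMap.sub_apply, Module.End.one_apply,
        sub_eq_zero] at h3
      exact Subtype.ext h3
  rw [← Nat.card_eq_fintype_card, ← Nat.card_eq_fintype_card, h2,
    Module.natCard_eq_pow_finrank (K := F) (V := W),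
    Module.natCard_eq_pow_finrank (K := F) (V := ↥(W ⊓ LinearMap.ker (x - 1)))] at h1
  have h4 := (ZMod.natCast_eq_natCast_iff _ _ _).2 h1
  push_cast at h4
  have hq0 : ((Nat.card F : ℕ) : ZMod r) ≠ 0 := by
    intro h0
    rw [ZMod.natCast_eq_zero_iff] at h0
    haveI : Fintype F := Fintype.ofFinite F
    obtain ⟨m, hp, hm⟩ := FiniteField.card F p
    rw [Nat.card_eq_fintype_card, hm] at h0
    exact hrp ((Nat.prime_dvd_prime_iff_eq hr hp).1 (hr.dvd_of_dvd_pow h0))
  have hle : finrank F ↥(W ⊓ LinearMap.ker (x - 1)) ≤ finrank F W :=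
    Submodule.finrank_mono inf_le_left
  obtain ⟨d, hd⟩ := Nat.exists_eq_add_of_le hle
  rw [hd, Nat.add_sub_cancel_left, ← hi]
  apply orderOf_dvd_of_pow_eq_one
  rw [hd, pow_add] at h4
  exact mul_left_cancel₀ (pow_ne_zero _ hq0) (by rw [h4, mul_one])

/-- Irreducibility. -/
theorem irreducible_of_order {n r : ℕ} (hn : finrank F V = n) (hn1 : 1 ≤ n) (hr : r.Prime) {p : ℕ}
    [Fact p.Prime] [CharP F p] (hrp : r ≠ p)
    (hi : orderOf ((Nat.card F : ℕ) : ZMod r) = n) (x : V →ₗ[F] V) (hx : x ^ r = 1) (hx1 : x ≠ 1)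
    (W : Submodule F V) (hW : ∀ w ∈ W, x w ∈ W) : W = ⊥ ∨ W = ⊤ := by
  have hker : LinearMap.ker (x - 1) = ⊥ := by
    have h1 := dvd_finrank_sub hr hrp hi x hx ⊤ (fun _ _ => Submodule.mem_top)
    rw [top_inf_eq, finrank_top, hn] at h1
    have hle : finrank F ↥(LinearMap.ker (x - 1)) ≤ n := hn ▸ Submodule.finrank_le _
    rcases Nat.eq_zero_or_pos (n - finrank F ↥(LinearMap.ker (x - 1))) with h0 | h0
    · exfalso
      apply hx1
      have h2 : LinearMap.ker (x - 1) = ⊤ := Submodule.eq_top_of_finrank_eq (by omega)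
      rw [LinearMap.ker_eq_top] at h2
      exact sub_eq_zero.1 h2
    · have h3 := Nat.le_of_dvd h0 h1
      exact Submodule.finrank_eq_zero.1 (by omega)
  have h1 := dvd_finrank_sub hr hrp hi x hx W hW
  rw [hker, inf_bot_eq, finrank_bot, Nat.sub_zero] at h1
  have hle : finrank F W ≤ n := hn ▸ Submodule.finrank_le _
  rcases Nat.eq_zero_or_pos (finrank F W) with h0 | h0
  · exact Or.inl (Submodule.finrank_eq_zero.1 h0)
  · have h3 := Nat.le_of_dvd h0 h1
    exact Or.inr (Submodule.eq_top_of_finrank_eq (by omega))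

/-- The centraliser ring of an irreducible element. -/
theorem centralizer_irreducible [Nontrivial V] (x : V →ₗ[F] V)
    (hirr : ∀ W : Submodule F V, (∀ w ∈ W, x w ∈ W) → W = ⊥ ∨ W = ⊤) :
    IsDomain (Subring.centralizer ({x} : Set (Module.End F V))) ∧
      Nat.card (Subring.centralizer ({x} : Set (Module.End F V))) = Nat.card V := by
  classical
  haveI : Finite V := Module.finite_of_finite F
  have hmem : ∀ c : Module.End F V, c ∈ Subring.centralizer ({x} : Set (Module.End F V)) ↔
      x * c = c * x := by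
    intro c
    rw [Subring.mem_centralizer_iff]
    exact ⟨fun h => h x rfl, fun h g hg => by rw [Set.mem_singleton_iff] at hg; rw [hg]; exact h⟩
  -- non-zero elements are injective
  have hinj : ∀ c ∈ Subring.centralizer ({x} : Set (Module.End F V)), c ≠ 0 →
      ∀ v, c v = 0 → v = 0 := by
    intro c hc hc0 v hv
    have h1 := (hmem c).1 hc
    rcases hirr (LinearMap.ker c) (fun w hw => by
      rw [LinearMap.mem_ker] at hw ⊢
      have := LinearMap.congr_fun h1 w
      change x (c w) = c (x w) at this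
      rw [← this, hw, map_zero]) with h2 | h2
    · have : v ∈ LinearMap.ker c := hv
      rw [h2] at this
      exact this
    · exact absurd (LinearMap.ker_eq_top.1 h2) hc0
  have hnz : NoZeroDivisors (Subring.centralizer ({x} : Set (Module.End F V))) := by
    constructor
    rintro ⟨a, ha⟩ ⟨b, hb⟩ hab
    by_contra hcon
    push Not at hcon
    have ha0 : a ≠ 0 := fun h => hcon.1 (Subtype.ext h)
    have hb0 : b ≠ 0 := fun h => hcon.2 (Subtype.ext h)
    apply hb0
    ext v
    have h1 : a (b v) = 0 := LinearMap.congr_fun (congrArg Subtype.val hab) v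
    exact hinj a ha ha0 _ h1
  haveI : Nontrivial (Subring.centralizer ({x} : Set (Module.End F V))) :=
    ⟨0, 1, fun h => by
      obtain ⟨v, hv⟩ := exists_ne (0 : V)
      have := LinearMap.congr_fun (congrArg Subtype.val h) v
      exact hv this.symm⟩
  refine ⟨NoZeroDivisors.to_isDomain _, ?_⟩
  obtain ⟨v, hv⟩ := exists_ne (0 : V)
  refine Nat.card_congr (Equiv.ofBijective (fun c => (c : Module.End F V) v) ⟨?_, ?_⟩)
  · intro c d hcd
    by_contra hne
    have hsub : (c : Module.End F V) - (d : Module.End F V) ≠ 0 := fun h =>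
      hne (Subtype.ext (sub_eq_zero.1 h))
    apply hv
    refine hinj ((c : Module.End F V) - d) (Subring.sub_mem _ c.2 d.2) hsub v ?_
    rw [LinearMap.sub_apply, sub_eq_zero]
    exact hcd
  · set W : Submodule F V :=
      { carrier := {w | ∃ c ∈ Subring.centralizer ({x} : Set (Module.End F V)), c v = w}
        add_mem' := by
          rintro _ _ ⟨c, hc, rfl⟩ ⟨d, hd, rfl⟩
          exact ⟨c + d, Subring.add_mem _ hc hd, rfl⟩
        zero_mem' := ⟨0, Subring.zero_mem _, rfl⟩
        smul_mem' := by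
          rintro a _ ⟨c, hc, rfl⟩
          refine ⟨a • c, ?_, rfl⟩
          rw [hmem] at hc ⊢
          rw [mul_smul_comm, hc, smul_mul_assoc] } with hWdef
    have hWmem : ∀ w, w ∈ W ↔ ∃ c ∈ Subring.centralizer ({x} : Set (Module.End F V)), c v = w :=
      fun w => Iff.rfl
    rcases hirr W (fun w hw => by
      rw [hWmem] at hw ⊢
      obtain ⟨c, hc, rfl⟩ := hw
      exact ⟨x * c, Subring.mul_mem _ ((hmem x).2 rfl) hc, rfl⟩) with h1 | h1
    · exfalso
      have : v ∈ W := (hWmem v).2 ⟨1, Subring.one_mem _, rfl⟩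
      rw [h1] at this
      exact hv this
    · intro w
      have : w ∈ W := h1 ▸ Submodule.mem_top
      obtain ⟨c, hc, hcw⟩ := (hWmem w).1 this
      exact ⟨⟨c, hc⟩, hcw⟩

/-- The centraliser in the unit group. -/
theorem centralizer_units {R : Type*} [Ring R] (x : Rˣ) :
    Nonempty ((Subring.centralizer ({(x : R)} : Set R))ˣ ≃* Subgroup.centralizer ({x} : Set Rˣ)) := by
  have hmem : ∀ c : R, c ∈ Subring.centralizer ({(x : R)} : Set R) ↔ (x : R) * c = c * x := by
    intro c
    rw [Subring.mem_centralizer_iff]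
    exact ⟨fun h => h x rfl, fun h g hg => by rw [Set.mem_singleton_iff] at hg; rw [hg]; exact h⟩
  have hmem' : ∀ c : Rˣ, c ∈ Subgroup.centralizer ({x} : Set Rˣ) ↔ x * c = c * x := by
    intro c
    rw [Subgroup.mem_centralizer_iff]
    exact ⟨fun h => h x rfl, fun h g hg => by rw [Set.mem_singleton_iff] at hg; rw [hg]; exact h⟩
  have hin : ∀ c : Rˣ, c ∈ Subgroup.centralizer ({x} : Set Rˣ) →
      (c : R) ∈ Subring.centralizer ({(x : R)} : Set R) := by
    intro c hc
    rw [hmem]
    exact congrArg Units.val ((hmem' c).1 hc)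
  refine ⟨
    { toFun := fun c => ⟨Units.map ((Subring.centralizer ({(x : R)} : Set R)).subtype :
        Subring.centralizer ({(x : R)} : Set R) →* R) c, ?_⟩
      invFun := fun c => ⟨⟨(c : Rˣ), hin _ c.2⟩, ⟨((c : Rˣ)⁻¹ : Rˣ), hin _ (inv_mem c.2)⟩,
        Subtype.ext (Units.mul_inv _), Subtype.ext (Units.inv_mul _)⟩
      left_inv := fun c => Units.ext rfl
      right_inv := fun c => Subtype.ext (Units.ext rfl)
      map_mul' := fun c d => Subtype.ext (Units.ext rfl) }⟩
  rw [hmem']
  exact Units.ext ((hmem _).1 c.1.2)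

theorem centralizer_map_equiv {G H : Type*} [Group G] [Group H] (e : G ≃* H) (x : G) :
    (Subgroup.centralizer ({x} : Set G)).map (e : G →* H) = Subgroup.centralizer ({e x} : Set H) := by
  ext h
  rw [Subgroup.mem_map, Subgroup.mem_centralizer_iff]
  constructor
  · rintro ⟨g, hg, rfl⟩ k hk
    rw [Set.mem_singleton_iff] at hk
    rw [Subgroup.mem_centralizer_iff] at hg
    rw [hk]
    change e x * e g = e g * e x
    rw [← map_mul, ← map_mul, hg x rfl]
  · intro hh
    refine ⟨e.symm h, ?_, e.apply_symm_apply h⟩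
    rw [Subgroup.mem_centralizer_iff]
    intro k hk
    rw [Set.mem_singleton_iff] at hk
    rw [hk]
    apply e.injective
    rw [map_mul, map_mul, e.apply_symm_apply]
    exact hh (e x) rfl

end Cfsg.Agent.Orth
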