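import Cfsg.Agent.Orth.Adjust2

/-!
Orthogonal direct sums of quadratic forms on coordinate spaces.
-/

set_option autoImplicit false

namespace Cfsg.Agent.Orth

open QuadraticMap Module

variable {ι κ : Type} {F : Type*} [Field F]

/-- The orthogonal sum of two forms on coordinate spaces. -/
noncomputable def qsum (Q₁ : QuadraticForm F (ι → F)) (Q₂ : QuadraticForm F (κ → F)) :
    QuadraticForm F (ι ⊕ κ → F) :=
  Q₁.comp (LinearMap.funLeft F F Sum.inl) + Q₂.comp (LinearMap.funLeft F F Sum.inr)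

variable (Q₁ : QuadraticForm F (ι → F)) (Q₂ : QuadraticForm F (κ → F))

theorem coe_qsum : ⇑(qsum Q₁ Q₂) = fun v => Q₁ (v ∘ Sum.inl) + Q₂ (v ∘ Sum.inr) := rfl

theorem qsum_apply (v : ι ⊕ κ → F) : qsum Q₁ Q₂ v = Q₁ (v ∘ Sum.inl) + Q₂ (v ∘ Sum.inr) := rfl

theorem polar_qsum (u v : ι ⊕ κ → F) : polar (qsum Q₁ Q₂) u v =
    polar Q₁ (u ∘ Sum.inl) (v ∘ Sum.inl) + polar Q₂ (u ∘ Sum.inr) (v ∘ Sum.inr) := by
  have h1 : (u + v) ∘ (Sum.inl : ι → ι ⊕ κ) = u ∘ Sum.inl + v ∘ Sum.inl := rfl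
  have h2 : (u + v) ∘ (Sum.inr : κ → ι ⊕ κ) = u ∘ Sum.inr + v ∘ Sum.inr := rfl
  simp only [QuadraticMap.polar, qsum_apply, h1, h2]
  ring

theorem qsum_nondegenerate {Q₁ : QuadraticForm F (ι → F)} {Q₂ : QuadraticForm F (κ → F)}
    (h₁ : (polarBilin Q₁).Nondegenerate) (h₂ : (polarBilin Q₂).Nondegenerate) :
    (polarBilin (qsum Q₁ Q₂)).Nondegenerate := by
  have key : ∀ x : ι ⊕ κ → F, (∀ y, polar (qsum Q₁ Q₂) x y = 0) → x = 0 := by
    intro x hx
    have e1 : x ∘ Sum.inl = 0 := by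
      refine h₁.1 _ fun y => ?_
      have := hx (Sum.elim y 0)
      rw [polar_qsum, Sum.elim_comp_inl, Sum.elim_comp_inr, polar_zero_right, add_zero] at this
      exact this
    have e2 : x ∘ Sum.inr = 0 := by
      refine h₂.1 _ fun y => ?_
      have := hx (Sum.elim 0 y)
      rw [polar_qsum, Sum.elim_comp_inl, Sum.elim_comp_inr, polar_zero_right, zero_add] at this
      exact this
    funext k
    rcases k with k | k
    · exact congrFun e1 k
    · exact congrFun e2 k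
  exact ⟨fun x hx => key x hx, fun x hx => key x fun y => by rw [pc]; exact hx y⟩

/-- Block diagonal linear automorphism. -/
noncomputable def blkE (g₁ : (ι → F) ≃ₗ[F] (ι → F)) (g₂ : (κ → F) ≃ₗ[F] (κ → F)) :
    (ι ⊕ κ → F) ≃ₗ[F] (ι ⊕ κ → F) :=
  (LinearEquiv.sumArrowLequivProdArrow ι κ F F).trans
    ((LinearEquiv.prodCongr g₁ g₂).trans (LinearEquiv.sumArrowLequivProdArrow ι κ F F).symm)

theorem blkE_apply (g₁ : (ι → F) ≃ₗ[F] (ι → F)) (g₂ : (κ → F) ≃ₗ[F] (κ → F)) (v : ι ⊕ κ → F) :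
    blkE g₁ g₂ v = Sum.elim (g₁ (v ∘ Sum.inl)) (g₂ (v ∘ Sum.inr)) := by
  funext k
  rcases k with k | k <;> rfl

/-- The product of the isometry groups inside the isometry group of the sum. -/
noncomputable def blk : OGrp Q₁ × OGrp Q₂ →* OGrp (qsum Q₁ Q₂) where
  toFun g := ⟨blkE (g.1 : (ι → F) ≃ₗ[F] (ι → F)) (g.2 : (κ → F) ≃ₗ[F] (κ → F)), fun v => by
    rw [blkE_apply, qsum_apply, Sum.elim_comp_inl, Sum.elim_comp_inr, OGrp_q, OGrp_q, qsum_apply]⟩
  map_one' := by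
    apply OGrp_ext
    intro x
    change blkE _ _ x = x
    rw [blkE_apply]
    exact Sum.elim_comp_inl_inr x
  map_mul' g h := by
    apply OGrp_ext
    intro x
    change blkE _ _ x = blkE _ _ (blkE _ _ x)
    rw [blkE_apply, blkE_apply, blkE_apply, Sum.elim_comp_inl, Sum.elim_comp_inr]
    rfl

theorem blk_apply (g : OGrp Q₁ × OGrp Q₂) (v : ι ⊕ κ → F) :
    ((blk Q₁ Q₂ g : OGrp (qsum Q₁ Q₂)) : (ι ⊕ κ → F) ≃ₗ[F] (ι ⊕ κ → F)) v =
      Sum.elim ((g.1 : (ι → F) ≃ₗ[F] (ι → F)) (v ∘ Sum.inl))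
        ((g.2 : (κ → F) ≃ₗ[F] (κ → F)) (v ∘ Sum.inr)) := blkE_apply _ _ v

theorem map_mem_commutator {G H : Type*} [Group G] [Group H] (φ : G →* H) {g : G}
    (hg : g ∈ commutator G) : φ g ∈ commutator H := by
  rw [mem_commutator_iff_of_eq_one] at hg ⊢
  rw [← Abelianization.map_of φ g, hg, map_one]

theorem blk_mem_commutator {g₁ : OGrp Q₁} {g₂ : OGrp Q₂} (h₁ : g₁ ∈ commutator (OGrp Q₁))
    (h₂ : g₂ ∈ commutator (OGrp Q₂)) : blk Q₁ Q₂ (g₁, g₂) ∈ commutator (OGrp (qsum Q₁ Q₂)) := by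
  have e : (g₁, g₂) = (MonoidHom.inl (OGrp Q₁) (OGrp Q₂) g₁) * (MonoidHom.inr (OGrp Q₁) (OGrp Q₂) g₂) := by
    simp
  rw [e, _root_.map_mul]
  exact mul_mem (map_mem_commutator ((blk Q₁ Q₂).comp (MonoidHom.inl _ _)) h₁)
    (map_mem_commutator ((blk Q₁ Q₂).comp (MonoidHom.inr _ _)) h₂)

theorem q_inl (v : ι → F) : qsum Q₁ Q₂ (Sum.elim v 0) = Q₁ v := by
  rw [qsum_apply, Sum.elim_comp_inl, Sum.elim_comp_inr, QuadraticMap.map_zero, add_zero]

/-- Embedding a list of non-singular vectors of the first summand. -/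
def embL (l : List {v : ι → F // Q₁ v ≠ 0}) : List {v : ι ⊕ κ → F // qsum Q₁ Q₂ v ≠ 0} :=
  l.map fun v => ⟨Sum.elim v.1 0, by rw [q_inl]; exact v.2⟩

theorem length_embL (l : List {v : ι → F // Q₁ v ≠ 0}) : (embL Q₁ Q₂ l).length = l.length := by
  simp [embL]

theorem nrm_embL (l : List {v : ι → F // Q₁ v ≠ 0}) :
    nrm (qsum Q₁ Q₂) (embL Q₁ Q₂ l) = nrm Q₁ l := by
  induction l with
  | nil => rfl
  | cons v l ih =>
    rw [embL, List.map_cons, nrm_cons, nrm_cons, ← ih, q_inl]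
    rfl

theorem reflProd_embL (l : List {v : ι → F // Q₁ v ≠ 0}) :
    reflProd (qsum Q₁ Q₂) (embL Q₁ Q₂ l) = blk Q₁ Q₂ (reflProd Q₁ l, 1) := by
  induction l with
  | nil =>
    rw [embL, List.map_nil, reflProd_nil, reflProd_nil]
    exact (map_one (blk Q₁ Q₂)).symm
  | cons v l ih =>
    rw [embL, List.map_cons, reflProd_cons, reflProd_cons]
    have e : ((refl Q₁ v.1 v.2 * reflProd Q₁ l : OGrp Q₁), (1 : OGrp Q₂))
        = (refl Q₁ v.1 v.2, 1) * (reflProd Q₁ l, 1) := by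
      rw [Prod.mk_mul_mk, one_mul]
    rw [e, _root_.map_mul, ← ih]
    refine congrArg (· * _) ?_
    apply OGrp_ext
    intro x
    rw [refl_apply, blk_apply, q_inl, polar_qsum, Sum.elim_comp_inl, Sum.elim_comp_inr,
      polar_zero_right, add_zero, refl_apply, coe_one_apply]
    funext k
    rcases k with k | k
    · simp
    · simp

end Cfsg.Agent.Orth
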